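import Mathlib

/-!
# The Sylow 2-subgroup of the alternating group of degree 7 acting on sign patterns

* `dbl`, `dihedral` : five double transpositions and the subgroup they generate (order 8)
* `evenB` : even sign patterns
* the finite facts used in `OrthFrame.Monomial`
-/

set_option autoImplicit false
set_option maxRecDepth 100000

namespace Cfsg.Agent.OrthFrame

/-- The sign patterns. -/
abbrev Pat : Type := Fin 7 → Bool

/-- The sum of two patterns. -/
def addP (s t : Pat) : Pat := fun i => xor (s i) (t i)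

/-- The pattern of a pair. -/
def pairP (a b : Fin 7) : Pat := fun m => m == a || m == b

/-- A double transposition. -/
def dt (q : Fin 7 × Fin 7 × Fin 7 × Fin 7) : Equiv.Perm (Fin 7) :=
  Equiv.swap q.1 q.2.1 * Equiv.swap q.2.2.1 q.2.2.2

/-- Distinctness of four points. -/
def four (q : Fin 7 × Fin 7 × Fin 7 × Fin 7) : Prop :=
  q.1 ≠ q.2.1 ∧ q.1 ≠ q.2.2.1 ∧ q.1 ≠ q.2.2.2 ∧ q.2.1 ≠ q.2.2.1 ∧ q.2.1 ≠ q.2.2.2 ∧
    q.2.2.1 ≠ q.2.2.2

instance : DecidablePred four := fun q => by unfold four; infer_instance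

/-- The generating double transpositions. -/
def dbl : List (Fin 7 × Fin 7 × Fin 7 × Fin 7) :=
  [(0, 1, 2, 3), (0, 2, 1, 3), (0, 3, 1, 2), (0, 2, 4, 5), (1, 3, 4, 5)]

/-- The element of order four. -/
def rot : Equiv.Perm (Fin 7) := dt (0, 2, 4, 5) * dt (0, 1, 2, 3)

/-- The elements. -/
def dihList : List (Equiv.Perm (Fin 7)) :=
  [1, rot, dt (0, 2, 1, 3), dt (0, 1, 2, 3) * dt (0, 2, 4, 5), dt (0, 1, 2, 3), dt (0, 2, 4, 5),
    dt (0, 3, 1, 2), dt (1, 3, 4, 5)]

theorem dihList_mul : dihList.all (fun x => dihList.all fun y => decide (x * y ∈ dihList)) = true := by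
  decide +kernel

theorem dihList_inv : dihList.all (fun x => decide (x⁻¹ ∈ dihList)) = true := by decide +kernel

/-- The subgroup. -/
def dihedral : Subgroup (Equiv.Perm (Fin 7)) where
  carrier := {σ | σ ∈ dihList}
  one_mem' := List.mem_cons_self
  mul_mem' ha hb := of_decide_eq_true (List.all_eq_true.1 (List.all_eq_true.1 dihList_mul _ ha) _ hb)
  inv_mem' ha := of_decide_eq_true (List.all_eq_true.1 dihList_inv _ ha)

theorem mem_dihedral {σ : Equiv.Perm (Fin 7)} : σ ∈ dihedral ↔ σ ∈ dihList := Iff.rfl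

theorem forall_of_all {α : Type} {l : List α} {p : α → Prop} [DecidablePred p]
    (h : (l.all fun x => decide (p x)) = true) : ∀ x ∈ l, p x :=
  fun x hx => of_decide_eq_true (List.all_eq_true.1 h x hx)

theorem exists_of_any {α : Type} {l : List α} {p : α → Bool} (h : l.any p = true) :
    ∃ x ∈ l, p x = true := List.any_eq_true.1 h

theorem dbl_mem : ∀ q ∈ dbl, four q ∧ dt q ∈ dihList := forall_of_all (by decide +kernel)

theorem dihList_gen : ∀ σ ∈ dihList, σ = 1 ∨ (∃ q ∈ dbl, σ = dt q) ∨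
    ∃ q ∈ dbl, ∃ q' ∈ dbl, σ = dt q * dt q' := by
  have h : dihList.all (fun σ => decide (σ = 1) || dbl.any (fun q => decide (σ = dt q)) ||
      dbl.any fun q => dbl.any fun q' => decide (σ = dt q * dt q')) = true := by decide +kernel
  intro σ hσ
  simpa only [Bool.or_eq_true, List.any_eq_true, decide_eq_true_eq, or_assoc] using
    List.all_eq_true.1 h σ hσ

theorem dihList_pow : ∀ σ ∈ dihList, σ ^ 4 = 1 := forall_of_all (by decide +kernel)

/-- An even pattern. -/
def evenB (s : Pat) : Bool := ((List.finRange 7).filter s).length % 2 == 0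

/-- The even patterns fixed by two permutations. -/
def fixCount (β γ : Equiv.Perm (Fin 7)) : ℕ :=
  (Finset.univ.filter fun s : Pat => evenB s = true ∧ s ∘ β = s ∧ s ∘ γ = s).card

theorem card_even : (Finset.univ.filter fun s : Pat => evenB s = true).card = 64 := by
  decide +kernel

theorem fix_one : ∀ β ∈ dihList, β ≠ 1 → β * β = 1 → fixCount β β ≤ 16 :=
  forall_of_all (by decide +kernel)

theorem fix_two : ∀ β ∈ dihList, ∀ γ ∈ dihList, β ≠ 1 → γ ≠ 1 → β ≠ γ → β * β = 1 → γ * γ = 1 →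
    β * γ = γ * β → fixCount β γ ≤ 8 ∧
      (dihList.filter fun δ => δ * δ == 1 && δ * β == β * δ && δ * γ == γ * δ).length ≤ 4 := by
  have h : dihList.all (fun β => dihList.all fun γ => decide (β ≠ 1 → γ ≠ 1 → β ≠ γ → β * β = 1 →
      γ * γ = 1 → β * γ = γ * β → fixCount β γ ≤ 8 ∧
      (dihList.filter fun δ => δ * δ == 1 && δ * β == β * δ && δ * γ == γ * δ).length ≤ 4)) = true := by
    decide +kernel
  exact fun β hβ γ hγ => of_decide_eq_true (List.all_eq_true.1 (List.all_eq_true.1 h β hβ) γ hγ)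

theorem even_decomp : ∀ s : Pat, evenB s = true →
    s = (((List.finRange 7).filter fun i => i != 6 && s i).map fun i => pairP i 6).foldr addP
      (fun _ => false) := by decide +kernel

theorem evenB_addP : ∀ s : Pat, evenB s = false → evenB (addP s (fun m => m == 0)) = true := by
  decide +kernel

theorem not_even_top : evenB (fun _ => true) = false := by decide +kernel

/-- The candidates for a permutation with given images of three points and of `rot`. -/
def cand (r : Equiv.Perm (Fin 7)) (a b c : Fin 7) : Fin 7 → Fin 7 :=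
  ![a, r a, r (r a), r (r (r a)), b, r b, c]

theorem cand_check : ∀ r ∈ dihList, ∀ a b c : Fin 7,
    ((List.finRange 7).map (cand r a b c)).Nodup →
    (∀ i, cand r a b c (rot i) = r (cand r a b c i)) →
    (∃ e ∈ dihList, ∀ i, cand r a b c (dt (0, 1, 2, 3) i) = e (cand r a b c i)) →
      ∃ n ∈ dihList, (∀ i, cand r a b c i = n i) ∨
        ∀ i, cand r a b c i = n (Equiv.swap 4 5 i) := by
  have h : dihList.all (fun r => decide (∀ a b c : Fin 7,
      (∀ i, cand r a b c (rot i) = r (cand r a b c i)) →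
      ((List.finRange 7).map (cand r a b c)).Nodup →
      dihList.any (fun e => decide (∀ i, cand r a b c (dt (0, 1, 2, 3) i) = e (cand r a b c i))) =
        true →
      dihList.any (fun n => decide ((∀ i, cand r a b c i = n i) ∨
        ∀ i, cand r a b c i = n (Equiv.swap 4 5 i))) = true)) = true := by decide +kernel
  intro r hr a b c h1 h2 h3
  have := of_decide_eq_true (List.all_eq_true.1 h r hr) a b c h2 h1
    (List.any_eq_true.2 (h3.imp fun e he => ⟨he.1, decide_eq_true he.2⟩))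
  simpa only [List.any_eq_true, decide_eq_true_eq] using this

/-- The normaliser of the subgroup in the symmetric group. -/
theorem normalizer_dihedral {σ : Equiv.Perm (Fin 7)}
    (h : ∀ δ ∈ dihList, σ * δ * σ⁻¹ ∈ dihList) :
    σ ∈ dihList ∨ σ * Equiv.swap 4 5 ∈ dihList := by
  obtain ⟨hr, hs⟩ := (by decide +kernel : rot ∈ dihList ∧ dt (0, 1, 2, 3) ∈ dihList)
  set r := σ * rot * σ⁻¹ with hrdef
  have e : ∀ δ : Equiv.Perm (Fin 7), ∀ i, σ (δ i) = (σ * δ * σ⁻¹) (σ i) := fun δ i => by simp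
  obtain ⟨v0, v1, v2, v4⟩ := (by decide +kernel :
    rot 0 = 1 ∧ rot 1 = 2 ∧ rot 2 = 3 ∧ rot 4 = 5)
  have hc : ∀ i, cand r (σ 0) (σ 4) (σ 6) i = σ i := by
    have h1 : σ 1 = r (σ 0) := by rw [hrdef, ← e, v0]
    have h2 : σ 2 = r (r (σ 0)) := by rw [← h1, hrdef, ← e, v1]
    have h3 : σ 3 = r (r (r (σ 0))) := by rw [← h2, hrdef, ← e, v2]
    have h5 : σ 5 = r (σ 4) := by rw [hrdef, ← e, v4]
    intro i
    fin_cases i <;> simp only [cand]
    exacts [rfl, h1.symm, h2.symm, h3.symm, rfl, h5.symm, rfl]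
  obtain ⟨n, hn, h' | h'⟩ := cand_check r (h _ hr) (σ 0) (σ 4) (σ 6)
    (by
      rw [show cand r (σ 0) (σ 4) (σ 6) = ⇑σ from funext hc]
      exact (List.nodup_finRange 7).map σ.injective)
    (fun i => by simp only [hc]; exact e rot i)
    ⟨_, h _ hs, fun i => by simp only [hc]; exact e _ i⟩
  · exact Or.inl ((Equiv.ext fun i => by rw [← hc, h'] : σ = n) ▸ hn)
  · right
    have : σ = n * Equiv.swap 4 5 := Equiv.ext fun i => by rw [← hc, h']; rfl
    rwa [this, mul_assoc, Equiv.swap_mul_self, mul_one]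

theorem moved_pair : ∀ σ : Fin 7, ∀ i : Fin 7, ∃ l, l ≠ i ∧ l ≠ σ := by decide

theorem exists_pair_sum : ∀ s : Pat, evenB s = true → s ≠ (fun _ => false) →
    ∃ q : Fin 7 × Fin 7 × Fin 7 × Fin 7, four q ∧
      addP s (s ∘ dt q) = pairP q.1 q.2.1 := by decide +kernel

theorem move_pair : ∀ a b b' : Fin 7, a ≠ b → a ≠ b' → b ≠ b' →
    ∃ q : Fin 7 × Fin 7 × Fin 7 × Fin 7, four q ∧ pairP a b ∘ dt q = pairP a b' := by
  decide +kernel

theorem addP_pairP : ∀ a x y : Fin 7, a ≠ x → a ≠ y → x ≠ y →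
    addP (pairP a x) (pairP a y) = pairP x y := by decide +kernel

theorem pairP_self : ∀ x y : Fin 7, pairP x y = pairP y x := by decide +kernel

theorem separate : ∀ j k : Fin 7, j ≠ k → ∃ l, l ≠ j ∧ l ≠ k := by decide

theorem fifth : ∀ q : Fin 7 × Fin 7 × Fin 7 × Fin 7, ∃ m,
    m ≠ q.1 ∧ m ≠ q.2.1 ∧ m ≠ q.2.2.1 ∧ m ≠ q.2.2.2 := by decide +kernel

end Cfsg.Agent.OrthFrame
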