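import Cfsg.Agent.Lib.Orth.Spinor
import Cfsg.Agent.Lib.OrthFrame.Table

/-!
# Monomial elements of `Ω` for an orthogonal frame of seven vectors of equal norm

* `Frame`, `Frame.map` : seven orthogonal vectors of a common norm; 2 is no square
* `Mon` : the element permutes the vectors up to sign
* `exists_diag`, `exists_dt` : lifts in `Ω` of even patterns and double transpositions
* `not_swap` : no element of `Ω` induces a transposition
* `exists_conj_dt` : a double transposition lift is conjugate in `Ω` to a sign change of two vectors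
-/

set_option autoImplicit false
set_option linter.unusedSectionVars false

namespace Cfsg.Agent.OrthFrame

open Cfsg Matrix Module
open QuadraticMap (polar)
open Cfsg.Agent.Orth

variable {ι : Type} [Fintype ι] [DecidableEq ι] {F : Type*} [Field F] [Fintype F] [DecidableEq F]
variable {Q : QuadraticForm F (ι → F)}

/-- Seven orthogonal vectors of a common non-zero norm in a space of dimension seven. -/
structure Frame (Q : QuadraticForm F (ι → F)) where
  /-- The vectors. -/
  u : Fin 7 → ι → F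
  /-- Their norm. -/
  c : F
  good : Good Q
  c_ne : c ≠ 0
  two : ¬ IsSquare (2 : F)
  card : Fintype.card ι = 7
  q : ∀ i, Q (u i) = c
  orth : ∀ i j, i ≠ j → polar ⇑Q (u i) (u j) = 0

theorem conj_mul' {G : Type*} [Group G] {g a b : G} :
    g * (a * b) * g⁻¹ = (g * a * g⁻¹) * (g * b * g⁻¹) := by group

namespace Frame

variable (f : Frame Q)

/-- The image of a frame. -/
def map (g : IsoGrp Q) : Frame Q :=
  { f with
    u := fun i => ap g (f.u i)
    q := fun i => by rw [Q_ap]; exact f.q i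
    orth := fun i j h => by rw [polar_ap]; exact f.orth i j h }

theorem two_ne (f : Frame Q) : (2 : F) ≠ 0 := fun h => f.two (h ▸ IsSquare.zero)

theorem polar_u (i j : Fin 7) : polar ⇑Q (f.u i) (f.u j) = if i = j then 2 * f.c else 0 := by
  split_ifs with h
  · rw [h, pl_self, f.q]
  · exact f.orth i j h

theorem polar_sum (a : Fin 7 → F) (j : Fin 7) :
    polar ⇑Q (∑ i, a i • f.u i) (f.u j) = a j * (2 * f.c) := by
  have : ∀ s : Finset (Fin 7), polar ⇑Q (∑ i ∈ s, a i • f.u i) (f.u j) =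
      ∑ i ∈ s, a i * polar ⇑Q (f.u i) (f.u j) := by
    intro s
    induction s using Finset.induction_on with
    | empty => simp
    | insert x s hx ih => rw [Finset.sum_insert hx, Finset.sum_insert hx, pl_add_left, pl_smul_left, ih]
  rw [this]
  simp [polar_u]

theorem indep : LinearIndependent F f.u := by
  refine Fintype.linearIndependent_iff.2 fun a ha j => ?_
  have := f.polar_sum a j
  rw [ha, pl_zero_left] at this
  exact (mul_eq_zero.1 this.symm).resolve_right (mul_ne_zero f.two_ne f.c_ne)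

theorem span : Submodule.span F (Set.range f.u) = ⊤ :=
  f.indep.span_eq_top_of_card_eq_finrank (by rw [Fintype.card_fin, finrank_space, f.card])

theorem exists_coeff (x : ι → F) : ∃ a : Fin 7 → F, x = ∑ i, a i • f.u i := by
  obtain ⟨a, ha⟩ := Submodule.mem_span_range_iff_exists_fun F |>.1 (f.span ▸ Submodule.mem_top (x := x))
  exact ⟨a, ha.symm⟩

theorem ext_frame {g h : IsoGrp Q} (H : ∀ i, ap g (f.u i) = ap h (f.u i)) : g = h := by
  refine ext_ap fun x => ?_
  obtain ⟨a, rfl⟩ := f.exists_coeff x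
  simp only [map_sum, map_smul, H]

/-- The sign of a Boolean. -/
def sg (b : Bool) : F := bif b then -1 else 1

theorem sg_mul (a b : Bool) : (sg a * sg b : F) = sg (xor a b) := by
  cases a <;> cases b <;> simp [sg]

theorem sg_ne_zero (a : Bool) : (sg a : F) ≠ 0 := by cases a <;> simp [sg]

theorem sg_inj (h2 : (2 : F) ≠ 0) {a b : Bool} (h : (sg a : F) = sg b) : a = b := by
  have : (1 : F) ≠ -1 := fun e => h2 (by linear_combination e)
  cases a <;> cases b <;> simp only [sg, cond_true, cond_false] at h <;>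
    first | rfl | exact absurd h this | exact absurd h.symm this

/-- The element permutes the frame up to sign. -/
def Mon (g : IsoGrp Q) (s : Pat) (σ : Equiv.Perm (Fin 7)) : Prop :=
  ∀ i, ap g (f.u i) = (sg (s i) : F) • f.u (σ i)

variable {f}

theorem Mon.unique {g : IsoGrp Q} {s t : Pat} {σ τ : Equiv.Perm (Fin 7)} (h : f.Mon g s σ)
    (h' : f.Mon g t τ) : s = t ∧ σ = τ := by
  have key : ∀ i, σ i = τ i ∧ s i = t i := by
    intro i
    have e := congrArg (fun x => polar ⇑Q x (f.u (σ i))) ((h i).symm.trans (h' i))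
    simp only [pl_smul_left, polar_u, if_pos] at e
    by_cases hi : τ i = σ i
    · rw [if_pos hi] at e
      exact ⟨hi.symm, sg_inj f.two_ne (mul_right_cancel₀ (mul_ne_zero f.two_ne f.c_ne) e)⟩
    · rw [if_neg hi, mul_zero] at e
      exact absurd e (mul_ne_zero (sg_ne_zero _) (mul_ne_zero f.two_ne f.c_ne))
  exact ⟨funext fun i => (key i).2, Equiv.ext fun i => (key i).1⟩

theorem Mon.eq {g h : IsoGrp Q} {s : Pat} {σ : Equiv.Perm (Fin 7)} (hg : f.Mon g s σ)
    (hh : f.Mon h s σ) : g = h := f.ext_frame fun i => (hg i).trans (hh i).symm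

theorem mon_one : f.Mon 1 (fun _ => false) 1 := fun i => by simp [sg]

theorem Mon.mul {g h : IsoGrp Q} {s t : Pat} {σ τ : Equiv.Perm (Fin 7)} (hg : f.Mon g s σ)
    (hh : f.Mon h t τ) : f.Mon (g * h) (addP (s ∘ τ) t) (σ * τ) := fun i => by
  rw [ap_mul, hh i, map_smul, hg (τ i), smul_smul, sg_mul, Equiv.Perm.mul_apply]
  simp [addP, Bool.xor_comm]

theorem Mon.inv {g : IsoGrp Q} {s : Pat} {σ : Equiv.Perm (Fin 7)} (hg : f.Mon g s σ) :
    f.Mon g⁻¹ (fun i => s (σ⁻¹ i)) σ⁻¹ := fun i => by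
  have := congrArg (ap g⁻¹) (hg (σ⁻¹ i))
  rw [ap_inv_ap, map_smul, Equiv.Perm.coe_inv, Equiv.apply_symm_apply] at this
  rw [Equiv.Perm.coe_inv, this, smul_smul, sg_mul, Bool.xor_self]
  simp [sg]

/-! ### Reflections -/

variable (f)

theorem spin_refl' (f : Frame Q) {v : ι → F} (hv : Q v ≠ 0) : spin (refl Q v) = quadraticChar F (Q v) := by
  rw [spin_refl f.good.nd hv]
  congr 2
  exact Subsingleton.elim _ _

theorem refl_mul_mem (f : Frame Q) {a b : ι → F} (ha : Q a ≠ 0) (h : Q a = Q b) :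
    refl Q a * refl Q b ∈ Omega F ⇑Q := by
  rw [mem_omega_iff f.good, dick_mul f.good, spin_mul f.good, dick_refl f.good.nd ha,
    dick_refl f.good.nd (h ▸ ha), f.spin_refl' ha, f.spin_refl' (h ▸ ha), ← h]
  exact ⟨rfl, by rw [← sq]; exact quadraticChar_sq_one ha⟩

theorem q_sub {i j : Fin 7} (h : i ≠ j) : Q (f.u i - f.u j) = 2 * f.c := by
  rw [Q_sub, f.q, f.q, f.orth i j h]; ring

theorem mon_refl (i : Fin 7) : f.Mon (refl Q (f.u i)) (fun m => m == i) 1 := fun m => by
  by_cases h : m = i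
  · subst h
    rw [refl_ap_self Q (show Q (f.u m) ≠ 0 by rw [f.q]; exact f.c_ne)]
    simp [sg]
  · rw [refl_ap_of_orth Q (f.orth i m (Ne.symm h))]
    simp [sg, beq_eq_false_iff_ne.2 h]

theorem mon_swap {i j : Fin 7} (h : i ≠ j) :
    f.Mon (refl Q (f.u i - f.u j)) (fun _ => false) (Equiv.swap i j) := fun m => by
  rw [refl_ap, f.q_sub h, pl_sub_left, polar_u, polar_u]
  simp only [sg, cond_false, one_smul]
  by_cases hi : i = m
  · subst hi
    rw [if_pos rfl, if_neg (Ne.symm h), sub_zero, inv_mul_cancel₀ (mul_ne_zero f.two_ne f.c_ne),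
      one_smul, Equiv.swap_apply_left]
    abel
  · by_cases hj : j = m
    · subst hj
      rw [if_neg hi, if_pos rfl, zero_sub, mul_neg,
        inv_mul_cancel₀ (mul_ne_zero f.two_ne f.c_ne), neg_one_smul, Equiv.swap_apply_right]
      abel
    · rw [if_neg hi, if_neg hj, sub_zero, mul_zero, zero_smul, sub_zero,
        Equiv.swap_apply_of_ne_of_ne (Ne.symm hi) (Ne.symm hj)]

theorem mon_pair {i j : Fin 7} (h : i ≠ j) :
    f.Mon (refl Q (f.u i) * refl Q (f.u j)) (pairP i j) 1 := by
  have := (f.mon_refl i).mul (f.mon_refl j)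
  rw [mul_one] at this
  convert this using 1
  funext m
  simp only [addP, pairP, Equiv.Perm.coe_one, Function.comp_id]
  by_cases h1 : m = i <;> by_cases h2 : m = j <;> simp [h1, h2, h, Ne.symm h, beq_eq_false_iff_ne.2]

/-- Even patterns lift to `Ω`. -/
theorem exists_diag (f : Frame Q) {s : Pat} (hs : evenB s = true) :
    ∃ g ∈ Omega F ⇑Q, f.Mon g s 1 := by
  rw [even_decomp s hs]
  have key : ∀ l : List (Fin 7), (∀ i ∈ l, i ≠ 6) →
      ∃ g ∈ Omega F ⇑Q, f.Mon g ((l.map fun i => pairP i 6).foldr addP fun _ => false) 1 := by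
    intro l
    induction l with
    | nil => exact fun _ => ⟨1, one_mem _, mon_one⟩
    | cons i l ih =>
      intro hl
      obtain ⟨g, hg, hm⟩ := ih fun j hj => hl j (List.mem_cons_of_mem _ hj)
      refine ⟨refl Q (f.u i) * refl Q (f.u 6) * g,
        mul_mem (f.refl_mul_mem (by rw [f.q]; exact f.c_ne) (by rw [f.q, f.q])) hg, ?_⟩
      simpa using (f.mon_pair (hl i List.mem_cons_self)).mul hm
  exact key _ fun i hi => by simp [List.mem_filter] at hi; exact hi.1

/-- A diagonal element determines its spinor sign from its Dickson sign. -/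
theorem diag_signs (f : Frame Q) {g : IsoGrp Q} {s : Pat} (h : f.Mon g s 1) :
    (evenB s = true ∧ g ∈ Omega F ⇑Q) ∨
      (evenB s = false ∧ dick g = -1 ∧ spin g = quadraticChar F f.c) := by
  cases hs : evenB s
  · obtain ⟨g0, hg0, hm⟩ := f.exists_diag (evenB_addP s hs)
    have h1 := hm.mul (f.mon_refl 0)
    rw [mul_one] at h1
    have e : addP (addP s (fun m => m == 0) ∘ ⇑(1 : Equiv.Perm (Fin 7))) (fun m => m == 0) = s := by
      funext m
      simp [addP]
    rw [e] at h1
    obtain ⟨d, e'⟩ := (mem_omega_iff f.good g0).1 hg0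
    have hu : Q (f.u 0) ≠ 0 := by rw [f.q]; exact f.c_ne
    rw [h.eq h1, dick_mul f.good, spin_mul f.good, d, e', dick_refl f.good.nd hu, f.spin_refl' hu,
      f.q]
    exact Or.inr ⟨rfl, one_mul _, one_mul _⟩
  · obtain ⟨g0, hg0, hm⟩ := f.exists_diag hs
    exact Or.inl ⟨rfl, h.eq hm ▸ hg0⟩

theorem diag_even (f : Frame Q) {g : IsoGrp Q} (hg : g ∈ Omega F ⇑Q) {s : Pat} (h : f.Mon g s 1) :
    evenB s = true := by
  rcases f.diag_signs h with ⟨he, -⟩ | ⟨-, hd, -⟩
  · exact he
  · rw [((mem_omega_iff f.good g).1 hg).1] at hd; omega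

/-- No element of `Ω` induces a transposition. -/
theorem not_swap (f : Frame Q) {g : IsoGrp Q} (hg : g ∈ Omega F ⇑Q) {s : Pat} {i j : Fin 7}
    (hij : i ≠ j) : ¬ f.Mon g s (Equiv.swap i j) := by
  intro h
  have h1 := h.mul (f.mon_swap hij)
  rw [Equiv.swap_mul_self] at h1
  obtain ⟨d, e⟩ := (mem_omega_iff f.good g).1 hg
  have hne : Q (f.u i - f.u j) ≠ 0 := by rw [f.q_sub hij]; exact mul_ne_zero f.two_ne f.c_ne
  rcases f.diag_signs h1 with ⟨-, hm⟩ | ⟨-, -, hsp⟩
  · have := ((mem_omega_iff f.good _).1 hm).1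
    rw [dick_mul f.good, d, dick_refl f.good.nd hne] at this
    omega
  · rw [spin_mul f.good, e, f.spin_refl' hne, f.q_sub hij, map_mul, one_mul,
      quadraticChar_neg_one_iff_not_isSquare.2 f.two] at hsp
    rcases quadraticChar_dichotomy f.c_ne with hc | hc <;> rw [hc] at hsp <;> omega

/-- Double transpositions lift to `Ω`. -/
theorem exists_dt (f : Frame Q) {q : Fin 7 × Fin 7 × Fin 7 × Fin 7} (hq : four q) :
    refl Q (f.u q.1 - f.u q.2.1) * refl Q (f.u q.2.2.1 - f.u q.2.2.2) ∈ Omega F ⇑Q ∧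
      f.Mon (refl Q (f.u q.1 - f.u q.2.1) * refl Q (f.u q.2.2.1 - f.u q.2.2.2)) (fun _ => false)
        (dt q) := by
  obtain ⟨h1, -, -, -, -, h6⟩ := hq
  refine ⟨f.refl_mul_mem (by rw [f.q_sub h1]; exact mul_ne_zero f.two_ne f.c_ne)
    (by rw [f.q_sub h1, f.q_sub h6]), ?_⟩
  have e : addP ((fun _ => false) ∘ ⇑(Equiv.swap q.2.2.1 q.2.2.2)) (fun _ => false) =
      fun _ => false := funext fun m => rfl
  have := (f.mon_swap h1).mul (f.mon_swap h6)
  rwa [e] at this

/-- A lift of a double transposition is conjugate in `Ω` to a sign change of two vectors. -/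
theorem exists_conj_dt (f : Frame Q) {q : Fin 7 × Fin 7 × Fin 7 × Fin 7} (hq : four q) :
    ∃ g ∈ Omega F ⇑Q, g * (refl Q (f.u q.1) * refl Q (f.u q.2.1)) * g⁻¹ =
      refl Q (f.u q.1 - f.u q.2.1) * refl Q (f.u q.2.2.1 - f.u q.2.2.2) := by
  obtain ⟨i, j, k, l⟩ := q
  obtain ⟨h1, h2, h3, h4, h5, h6⟩ := hq
  simp only at h1 h2 h3 h4 h5 h6 ⊢
  obtain ⟨m, m1, m2, m3, m4⟩ := fifth (i, j, k, l)
  simp only at m1 m2 m3 m4
  have h2' := f.two_ne
  have hc := f.c_ne
  set w : ι → F := (2 : F)⁻¹ • (f.u i + f.u j - f.u k + f.u l) with hw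
  have hwi : polar ⇑Q w (f.u i) = f.c := by
    simp only [hw, pl_smul_left, pl_add_left, pl_sub_left, polar_u, if_pos, if_neg (Ne.symm h1),
      if_neg (Ne.symm h2), if_neg (Ne.symm h3)]
    field_simp; ring
  have hwj : polar ⇑Q w (f.u j) = f.c := by
    simp only [hw, pl_smul_left, pl_add_left, pl_sub_left, polar_u, if_pos, if_neg h1,
      if_neg (Ne.symm h4), if_neg (Ne.symm h5)]
    field_simp; ring
  have hQw : Q w = f.c := by
    rw [hw, Q_smul, Q_add, Q_sub, Q_add, f.q, f.q, f.q, f.q, f.orth i j h1, pl_sub_left,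
      pl_add_left, pl_add_left, f.orth i k h2, f.orth j k h4, f.orth i l h3, f.orth j l h5,
      f.orth k l h6]
    field_simp; ring
  have hQm : Q (f.u m) = f.c := f.q m
  refine ⟨refl Q w * refl Q (f.u m), f.refl_mul_mem (by rw [hQw]; exact hc) (hQw.trans hQm.symm), ?_⟩
  rw [conj_mul' (g := refl Q w * refl Q (f.u m)), conj_refl, conj_refl, ap_mul, ap_mul,
    refl_ap_of_orth Q (f.orth m i m1), refl_ap_of_orth Q (f.orth m j m2), refl_ap, refl_ap, hQw, hwi,
    hwj, inv_mul_cancel₀ hc, one_smul]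
  set P : ι → F := f.u i - f.u j with hP
  set R : ι → F := f.u k - f.u l with hR
  have ea : f.u i - w = (2 : F)⁻¹ • (P + R) := by
    rw [hw, hP, hR]; match_scalars <;> field_simp <;> ring
  have eb : f.u j - w = (2 : F)⁻¹ • (R - P) := by
    rw [hw, hP, hR]; match_scalars <;> field_simp <;> ring
  have hQP : Q P = 2 * f.c := f.q_sub h1
  have hQR : Q R = 2 * f.c := f.q_sub h6
  have hPR : polar ⇑Q P R = 0 := by
    rw [hP, hR, pl_sub_left, pl_sub_right, pl_sub_right, f.orth i k h2, f.orth i l h3,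
      f.orth j k h4, f.orth j l h5]; ring
  have hRP : polar ⇑Q R P = 0 := by rw [pl_comm]; exact hPR
  have h2n : (4 : F) ≠ 0 := by
    rw [show (4 : F) = 2 * 2 by norm_num]; exact mul_ne_zero h2' h2'
  rw [ea, eb]
  refine ext_ap fun x => ?_
  simp only [ap_mul, refl_ap, pl_sub_right, pl_smul_right, pl_smul_left, pl_add_left, pl_sub_left,
    Q_smul, Q_add, Q_sub, hQP, hQR, hPR, hRP, pl_self]
  match_scalars <;> (try field_simp) <;> ring_nf <;> field_simp <;> ring

end Frame

end Cfsg.Agent.OrthFrame
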