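import Cfsg.Agent.Lib.OrthFrame.Monomial
import Cfsg.Agent.Lib.MathieuFusion.Basic

/-!
# The Sylow 2-subgroup of `Ω₇` inside the monomial group of a frame

* `syl` : the monomial elements with permutation in the dihedral group
* `mem_syl_of_norm` : it is self-normalising
* `sylow` : it is a Sylow 2-subgroup
* `strongly_closed_eq` : it has no proper strongly closed subgroup
-/

set_option autoImplicit false
set_option linter.unusedSectionVars false

namespace Cfsg.Agent.OrthFrame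

open Cfsg Matrix Module
open QuadraticMap (polar)
open Cfsg.Agent.Orth

variable {ι : Type} [Fintype ι] [DecidableEq ι] {F : Type*} [Field F] [Fintype F] [DecidableEq F]
variable {Q : QuadraticForm F (ι → F)}

namespace Frame

variable (f : Frame Q)

/-- The monomial subgroup over the dihedral group. -/
def syl : Subgroup (Omega F ⇑Q) where
  carrier := {g | ∃ s σ, σ ∈ dihedral ∧ f.Mon g.1 s σ}
  one_mem' := ⟨_, _, one_mem _, mon_one⟩
  mul_mem' := by
    rintro g h ⟨s, σ, hσ, hg⟩ ⟨t, τ, hτ, hh⟩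
    exact ⟨_, _, mul_mem hσ hτ, hg.mul hh⟩
  inv_mem' := by
    rintro g ⟨s, σ, hσ, hg⟩
    exact ⟨_, _, inv_mem hσ, hg.inv⟩

theorem exists_mon (x : f.syl) : ∃ p : Pat × Equiv.Perm (Fin 7), p.2 ∈ dihedral ∧
    f.Mon x.1.1 p.1 p.2 := by
  obtain ⟨s, σ, h, h'⟩ := x.2
  exact ⟨(s, σ), h, h'⟩

/-- The sign pattern of an element. -/
noncomputable def pat (x : f.syl) : Pat := (f.exists_mon x).choose.1

/-- The permutation of an element. -/
noncomputable def perm (x : f.syl) : Equiv.Perm (Fin 7) := (f.exists_mon x).choose.2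

theorem perm_mem (x : f.syl) : f.perm x ∈ dihList := (f.exists_mon x).choose_spec.1

theorem mon_self (x : f.syl) : f.Mon x.1.1 (f.pat x) (f.perm x) := (f.exists_mon x).choose_spec.2

theorem perm_eq {x : f.syl} {s : Pat} {σ : Equiv.Perm (Fin 7)} (h : f.Mon x.1.1 s σ) :
    f.perm x = σ := ((f.mon_self x).unique h).2

theorem pat_eq {x : f.syl} {s : Pat} {σ : Equiv.Perm (Fin 7)} (h : f.Mon x.1.1 s σ) :
    f.pat x = s := ((f.mon_self x).unique h).1

/-- The permutations as a homomorphism. -/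
noncomputable def permHom : f.syl →* Equiv.Perm (Fin 7) where
  toFun := f.perm
  map_one' := f.perm_eq mon_one
  map_mul' x y := f.perm_eq ((f.mon_self x).mul (f.mon_self y))

theorem permHom_apply (x : f.syl) : f.permHom x = f.perm x := rfl

theorem mon_ker {x : f.syl} (h : x ∈ f.permHom.ker) : f.Mon x.1.1 (f.pat x) 1 :=
  (show f.perm x = 1 from h) ▸ f.mon_self x

theorem pat_even {x : f.syl} (h : x ∈ f.permHom.ker) : evenB (f.pat x) = true :=
  f.diag_even x.1.2 (f.mon_ker h)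

theorem pat_injOn {x y : f.syl} (hx : x ∈ f.permHom.ker) (hy : y ∈ f.permHom.ker)
    (h : f.pat x = f.pat y) : x = y :=
  Subtype.ext (Subtype.ext ((f.mon_ker hx).eq (h ▸ f.mon_ker hy)))

theorem ker_sq {x : f.syl} (hx : x ∈ f.permHom.ker) : x * x = 1 := by
  refine Subtype.ext (Subtype.ext ?_)
  have h := (f.mon_ker hx).mul (f.mon_ker hx)
  have e : addP (f.pat x ∘ ⇑(1 : Equiv.Perm (Fin 7))) (f.pat x) = fun _ => false :=
    funext fun i => Bool.xor_self _
  rw [e, mul_one] at h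
  exact h.eq mon_one

theorem ker_comm {x y : f.syl} (hx : x ∈ f.permHom.ker) (hy : y ∈ f.permHom.ker) :
    x * y = y * x := by
  have h := ker_sq f (mul_mem hx hy)
  have e1 : x⁻¹ = x := inv_eq_of_mul_eq_one_right (f.ker_sq hx)
  have e2 : y⁻¹ = y := inv_eq_of_mul_eq_one_right (f.ker_sq hy)
  calc x * y = (x * y)⁻¹ := eq_inv_of_mul_eq_one_left h
    _ = y * x := by rw [_root_.mul_inv_rev, e1, e2]

theorem card_ker : 64 ≤ Nat.card f.permHom.ker := by
  classical
  have hex : ∀ s : {s : Pat // evenB s = true}, ∃ x : f.permHom.ker, f.pat x.1 = s.1 := by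
    rintro ⟨s, hs⟩
    obtain ⟨g, hg, hm⟩ := f.exists_diag hs
    refine ⟨⟨⟨⟨g, hg⟩, s, 1, one_mem _, hm⟩, f.perm_eq hm⟩, f.pat_eq hm⟩
  choose x hx using hex
  have := Nat.card_le_card_of_injective x fun a b e => Subtype.ext (by rw [← hx a, ← hx b, e])
  rwa [Nat.card_eq_fintype_card, Fintype.card_subtype, card_even] at this

/-- An elementary abelian subgroup of order at least 64 consists of sign changes. -/
theorem le_ker {A : Subgroup f.syl} (hA : 64 ≤ Nat.card A) (hsq : ∀ a ∈ A, a * a = 1)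
    (hcomm : ∀ a ∈ A, ∀ b ∈ A, a * b = b * a) : A ≤ f.permHom.ker := by
  classical
  intro a ha
  by_contra hne
  let ψ : A →* Equiv.Perm (Fin 7) := f.permHom.comp A.subtype
  set β := f.perm a with hβ
  have hβ1 : β ≠ 1 := fun e => hne (show f.perm a = 1 from e)
  have hb : ∀ x : A, ψ x ∈ dihList ∧ ψ x * ψ x = 1 ∧ ∀ y : A, ψ x * ψ y = ψ y * ψ x := fun x =>
    ⟨f.perm_mem _, by rw [← map_mul, show x * x = 1 from Subtype.ext (hsq _ x.2), map_one],
      fun y => by rw [← map_mul, ← map_mul, show x * y = y * x from Subtype.ext (hcomm _ x.2 _ y.2)]⟩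
  -- the patterns in the kernel are fixed by the image
  have hfix : ∀ x : ψ.ker, ∀ y : A, f.pat x.1.1 ∘ ψ y = f.pat x.1.1 := by
    intro x y
    have hx : f.Mon x.1.1.1.1 (f.pat x.1.1) 1 := f.mon_ker x.2
    have h1 := hx.mul (f.mon_self y.1)
    have h2 := (f.mon_self y.1).mul hx
    have e : x.1.1.1.1 * y.1.1.1 = y.1.1.1 * x.1.1.1.1 :=
      congrArg (fun z : f.syl => z.1.1) (hcomm _ x.1.2 _ y.2)
    have := (h1.unique (e ▸ h2)).1
    funext i
    have := congrFun this i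
    simp only [addP, Function.comp_apply, Equiv.Perm.coe_one, id_eq] at this
    show f.pat x.1.1 (f.perm y.1 i) = _
    revert this
    cases f.pat x.1.1 (f.perm y.1 i) <;> cases f.pat x.1.1 i <;> cases f.pat y.1 i <;> simp
  have hker : ∀ γ γ', (∃ y, ψ y = γ) → (∃ y, ψ y = γ') → Nat.card ψ.ker ≤ fixCount β γ' ∨ γ ≠ β := by
    rintro γ γ' ⟨y, hy⟩ ⟨y', hy'⟩
    by_cases hγ : γ = β
    · refine Or.inl ?_
      let F : ψ.ker → ↥(Finset.univ.filter fun s : Pat =>
          evenB s = true ∧ s ∘ β = s ∧ s ∘ γ' = s) :=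
        fun x => ⟨f.pat x.1.1, Finset.mem_filter.2 ⟨Finset.mem_univ _, f.pat_even x.2,
          by rw [← hγ, ← hy]; exact hfix x y, by rw [← hy']; exact hfix x y'⟩⟩
      have := Nat.card_le_card_of_injective F fun x x' e =>
        Subtype.ext (Subtype.ext (f.pat_injOn x.2 x'.2 (congrArg Subtype.val e)))
      rwa [Nat.card_eq_finsetCard] at this
    · exact Or.inr hγ
  have hcard := Subgroup.card_mul_index ψ.ker
  rw [Subgroup.index_ker] at hcard
  have hβr : ∃ y, ψ y = β := ⟨⟨a, ha⟩, rfl⟩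
  have hβ2 : β ∈ dihList ∧ β * β = 1 := ⟨(hb ⟨a, ha⟩).1, (hb ⟨a, ha⟩).2.1⟩
  by_cases h2 : ∀ y : A, ψ y = 1 ∨ ψ y = β
  · have hr : Nat.card ψ.range ≤ 2 := by
      have hle : Nat.card ψ.range ≤ Nat.card ↥({1, β} : Finset (Equiv.Perm (Fin 7))) := by
        refine Nat.card_le_card_of_injective (fun z => ⟨z.1, ?_⟩) fun z z' e =>
          Subtype.ext (congrArg (fun w => w.1) e)
        obtain ⟨y, hy⟩ := z.2
        rcases h2 y with h | h <;> simp [← hy, h]
      exact hle.trans (by rw [Nat.card_eq_finsetCard]; exact Finset.card_le_two)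
    have hk := ((hker β β hβr hβr).resolve_right (fun h => h rfl)).trans
      (fix_one β hβ2.1 hβ1 hβ2.2)
    have := Nat.mul_le_mul hk hr
    omega
  · push Not at h2
    obtain ⟨y, hy1, hyβ⟩ := h2
    obtain ⟨m1, m2⟩ := fix_two β hβ2.1 (ψ y) (hb y).1 hβ1 hy1 (Ne.symm hyβ) hβ2.2 (hb y).2.1
      ((hb ⟨a, ha⟩).2.2 y)
    have hr : Nat.card ψ.range ≤ 4 := by
      refine le_trans ?_ m2
      have hle : Nat.card ψ.range ≤ Nat.card ↥(dihList.filter fun δ =>
          δ * δ == 1 && δ * β == β * δ && δ * ψ y == ψ y * δ).toFinset := by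
        refine Nat.card_le_card_of_injective (fun z => ⟨z.1, ?_⟩) fun z z' e =>
          Subtype.ext (congrArg (fun w => w.1) e)
        obtain ⟨w, hw⟩ := z.2
        simp only [List.mem_toFinset, List.mem_filter, Bool.and_eq_true, beq_iff_eq]
        exact ⟨hw ▸ (hb w).1, ⟨hw ▸ (hb w).2.1, hw ▸ (hb w).2.2 ⟨a, ha⟩⟩, hw ▸ (hb w).2.2 y⟩
      exact hle.trans (by rw [Nat.card_eq_finsetCard]; exact List.toFinset_card_le _)
    have hk := ((hker β (ψ y) hβr ⟨y, rfl⟩).resolve_right (fun h => h rfl)).trans m1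
    have := Nat.mul_le_mul hk hr
    omega

/-- A vector on which every even sign change is a scalar is a multiple of a frame vector. -/
theorem exists_eq_smul {w : ι → F} (hQ : Q w = f.c)
    (h : ∀ g ∈ Omega F ⇑Q, ∀ s, f.Mon g s 1 → ∃ b : Bool, ap g w = (sg b : F) • w) :
    ∃ j b, w = (sg b : F) • f.u j := by
  classical
  obtain ⟨a, ha⟩ := f.exists_coeff w
  have hsupp : ∀ j k, j ≠ k → a j = 0 ∨ a k = 0 := by
    intro j k hjk
    by_contra hne
    push Not at hne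
    obtain ⟨l, l1, l2⟩ := separate j k hjk
    have hev : evenB (pairP j l) = true :=
      (by decide +kernel : ∀ j l : Fin 7, l ≠ j → evenB (pairP j l) = true) j l l1
    obtain ⟨g, hg, hm⟩ := f.exists_diag hev
    obtain ⟨b, hb⟩ := h g hg _ hm
    have coef : ∀ i, (sg (pairP j l i) : F) = sg b ∨ a i = 0 := by
      intro i
      have e := congrArg (fun x => polar ⇑Q x (f.u i)) hb
      rw [ha] at e
      simp only [map_sum, map_smul, hm _, Equiv.Perm.coe_one, id_eq, smul_smul,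
        pl_smul_left, f.polar_sum] at e
      rcases mul_eq_mul_right_iff.1 (show sg (pairP j l i) * (a i * (2 * f.c)) =
        sg b * (a i * (2 * f.c)) by linear_combination e) with h | h
      · exact Or.inl h
      · exact Or.inr ((mul_eq_zero.1 h).resolve_right (mul_ne_zero f.two_ne f.c_ne))
    have e1 := sg_inj f.two_ne ((coef j).resolve_right hne.1)
    have e2 := sg_inj f.two_ne ((coef k).resolve_right hne.2)
    rw [← e1] at e2
    simp [pairP, beq_eq_false_iff_ne.2 (Ne.symm hjk), beq_eq_false_iff_ne.2 (Ne.symm l2)] at e2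
  obtain ⟨j, hj⟩ : ∃ j, a j ≠ 0 := by
    by_contra hz
    push Not at hz
    rw [ha] at hQ
    simp [hz] at hQ
    exact f.c_ne hQ.symm
  have hw : w = a j • f.u j := by
    rw [ha]
    exact Finset.sum_eq_single j (fun i _ hi => by rw [(hsupp i j hi).resolve_right hj, zero_smul])
      (fun hn => absurd (Finset.mem_univ j) hn)
  rw [hw, Q_smul, f.q] at hQ
  have h1 : a j * a j = 1 := mul_right_cancel₀ f.c_ne (hQ.trans (one_mul _).symm)
  rcases mul_self_eq_one_iff.1 h1 with e | e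
  · exact ⟨j, false, by rw [hw, e]; simp [sg]⟩
  · exact ⟨j, true, by rw [hw, e]; simp [sg]⟩

/-- The subgroup is its own normaliser. -/
theorem mem_syl_of_norm {g : Omega F ⇑Q} (hg : ∀ x, x ∈ f.syl ↔ g * x * g⁻¹ ∈ f.syl) :
    g ∈ f.syl := by
  classical
  let φ : f.syl →* f.syl :=
    { toFun := fun x => ⟨g * x.1 * g⁻¹, (hg x.1).1 x.2⟩
      map_one' := Subtype.ext (by simp)
      map_mul' := fun x y => Subtype.ext (by simp [mul_assoc]) }
  let χ : f.syl →* f.syl :=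
    { toFun := fun x => ⟨g⁻¹ * x.1 * g, (hg _).2 (by simpa [mul_assoc] using x.2)⟩
      map_one' := Subtype.ext (by simp)
      map_mul' := fun x y => Subtype.ext (by simp [mul_assoc]) }
  have hχ : Function.Injective χ := fun x y e => Subtype.ext (by
    have := congrArg (fun z : f.syl => g * z.1 * g⁻¹) e
    simpa [χ, mul_assoc] using this)
  have hle : f.permHom.ker.map χ ≤ f.permHom.ker := by
    refine f.le_ker ?_ ?_ ?_
    · rw [← Nat.card_congr (f.permHom.ker.equivMapOfInjective χ hχ).toEquiv]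
      exact f.card_ker
    · rintro _ ⟨x, hx, rfl⟩
      rw [← map_mul, f.ker_sq hx, map_one]
    · rintro _ ⟨x, hx, rfl⟩ _ ⟨y, hy, rfl⟩
      rw [← map_mul, ← map_mul, f.ker_comm hx hy]
  have hcol : ∀ i, ∃ j b, ap g.1 (f.u i) = (sg b : F) • f.u j := by
    intro i
    refine f.exists_eq_smul (by rw [Q_ap, f.q]) fun e he s hs => ?_
    let x : f.syl := ⟨⟨e, he⟩, s, 1, one_mem _, hs⟩
    have hx : χ x ∈ f.permHom.ker := hle ⟨x, f.perm_eq hs, rfl⟩
    refine ⟨f.pat (χ x) i, ?_⟩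
    have h1 := congrArg (ap g.1) (f.mon_ker hx i)
    rw [map_smul] at h1
    rw [show e = g.1 * (χ x).1.1 * g.1⁻¹ by simp [χ, x, mul_assoc], ap_mul, ap_mul, ap_inv_ap]
    simpa using h1
  choose j b hjb using hcol
  have hjinj : Function.Injective j := by
    intro i k e
    by_contra hne
    have := polar_ap g.1 (f.u i) (f.u k)
    rw [hjb, hjb, pl_smul_left, pl_smul_right, e, f.orth i k hne, polar_u, if_pos rfl] at this
    exact mul_ne_zero (sg_ne_zero _) (mul_ne_zero (sg_ne_zero _) (mul_ne_zero f.two_ne f.c_ne)) this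
  let σ : Equiv.Perm (Fin 7) := Equiv.ofBijective j (Finite.injective_iff_bijective.1 hjinj)
  have hm : f.Mon g.1 b σ := hjb
  have hnorm : ∀ δ ∈ dihList, σ * δ * σ⁻¹ ∈ dihList := by
    intro δ hδ
    obtain ⟨t, ht, hmt⟩ : ∃ t ∈ f.syl, ∃ s, f.Mon (t : Omega F ⇑Q).1 s δ := by
      rcases dihList_gen δ hδ with rfl | ⟨q, hq, rfl⟩ | ⟨q, hq, q', hq', rfl⟩
      · exact ⟨1, one_mem _, _, mon_one⟩
      · obtain ⟨ho, hl⟩ := f.exists_dt (dbl_mem q hq).1
        exact ⟨⟨_, ho⟩, ⟨_, _, hδ, hl⟩, _, hl⟩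
      · obtain ⟨ho, hl⟩ := f.exists_dt (dbl_mem q hq).1
        obtain ⟨ho', hl'⟩ := f.exists_dt (dbl_mem q' hq').1
        exact ⟨⟨_, mul_mem ho ho'⟩, ⟨_, _, hδ, hl.mul hl'⟩, _, hl.mul hl'⟩
    obtain ⟨s, hs⟩ := hmt
    obtain ⟨s', σ', hσ', hm'⟩ := (hg t).1 ht
    have := hm'.unique ((hm.mul hs).mul hm.inv)
    rw [← this.2]
    exact hσ'
  rcases normalizer_dihedral hnorm with h | h
  · exact ⟨b, σ, h, hm⟩
  · exfalso
    rcases dihList_gen _ h with e | ⟨q, hq, e⟩ | ⟨q, hq, q', hq', e⟩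
    · exact f.not_swap g.2 (by decide : (4 : Fin 7) ≠ 5) (s := b) (by
        have : σ = Equiv.swap 4 5 := by
          rw [← mul_inv_eq_one, Equiv.swap_inv, e]
        rwa [this] at hm)
    · obtain ⟨ho, hl⟩ := f.exists_dt (dbl_mem q hq).1
      have := hl.inv.mul hm
      have e' : (dt q)⁻¹ * σ = Equiv.swap 4 5 := by
        rw [inv_mul_eq_iff_eq_mul, ← e, mul_assoc, Equiv.swap_mul_self, mul_one]
      rw [e'] at this
      exact f.not_swap (mul_mem (inv_mem ho) g.2) (by decide : (4 : Fin 7) ≠ 5) this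
    · obtain ⟨ho, hl⟩ := f.exists_dt (dbl_mem q hq).1
      obtain ⟨ho', hl'⟩ := f.exists_dt (dbl_mem q' hq').1
      have := (hl.mul hl').inv.mul hm
      have e' : (dt q * dt q')⁻¹ * σ = Equiv.swap 4 5 := by
        rw [inv_mul_eq_iff_eq_mul, ← e, mul_assoc, Equiv.swap_mul_self, mul_one]
      rw [e'] at this
      exact f.not_swap (mul_mem (inv_mem (mul_mem ho ho')) g.2) (by decide : (4 : Fin 7) ≠ 5) this

theorem isPGroup_syl : IsPGroup 2 f.syl := fun x => by
  refine ⟨3, ?_⟩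
  have h4 : x ^ 4 ∈ f.permHom.ker := by
    rw [MonoidHom.mem_ker, map_pow]
    exact dihList_pow _ (f.perm_mem x)
  rw [show (2 : ℕ) ^ 3 = 4 * 2 by norm_num, pow_mul, pow_two]
  exact f.ker_sq h4

/-- The subgroup as a Sylow subgroup. -/
noncomputable def sylow : Sylow 2 (Omega F ⇑Q) where
  toSubgroup := f.syl
  isPGroup' := f.isPGroup_syl
  is_maximal' := fun {R} hR hle => by
    by_contra hne
    have : Fact (Nat.Prime 2) := ⟨Nat.prime_two⟩
    have : Finite R := inferInstance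
    have : Group.IsNilpotent R := hR.isNilpotent
    have hlt : f.syl.subgroupOf R < ⊤ := by
      refine lt_top_iff_ne_top.2 fun h => hne ?_
      exact le_antisymm (Subgroup.subgroupOf_eq_top.1 h) hle
    obtain ⟨r, hr, hr'⟩ := Set.exists_of_ssubset
      (SetLike.coe_ssubset_coe.2 (Group.normalizerCondition_of_isNilpotent _ hlt))
    refine hr' (show (r : Omega F ⇑Q) ∈ f.syl from f.mem_syl_of_norm fun x => ?_)
    refine ⟨fun hx => ?_, fun hx => ?_⟩
    · exact (Subgroup.mem_normalizer_iff.1 hr ⟨x, hle hx⟩).1 hx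
    · have hxR : x ∈ R := by
        have := R.mul_mem (R.mul_mem (R.inv_mem r.2) (hle hx)) r.2
        simpa [mul_assoc] using this
      exact (Subgroup.mem_normalizer_iff.1 hr ⟨x, hxR⟩).2 hx

theorem syl_ne_bot : f.syl ≠ ⊥ := by
  intro h
  have h1 := f.card_ker.trans (Nat.card_le_card_of_injective _ f.permHom.ker.subtype_injective)
  rw [show Nat.card f.syl = 1 by rw [h]; exact Subgroup.card_bot] at h1
  omega

/-- There is no proper strongly closed subgroup. -/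
theorem strongly_closed_eq (T : Subgroup (Omega F ⇑Q))
    (hT : (groupFusionSystem f.syl).StronglyClosed T) : T = ⊥ ∨ T = f.syl := by
  classical
  refine or_iff_not_imp_left.2 fun hne => ?_
  have hcl : ∀ g x : Omega F ⇑Q, x ∈ T → g * x * g⁻¹ ∈ f.syl → g * x * g⁻¹ ∈ T := by
    intro g x hx hgx
    have hle : Subgroup.zpowers x ≤ T := Subgroup.zpowers_le.2 hx
    have hcS : Subgroup.zpowers x ≤ f.syl.comap (MulAut.conj g).toMonoidHom :=
      Subgroup.zpowers_le.2 hgx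
    obtain ⟨ψ, hψ, e⟩ := Fusion.isMap_group_iff.2
      ⟨hle.trans hT.1, g, fun y hy => ⟨hcS hy, rfl⟩⟩
    have := hT.2 _ hle ψ hψ ⟨x, Subgroup.mem_zpowers x⟩
    rwa [e x (Subgroup.mem_zpowers x)] at this
  let V : Set Pat := {s | ∃ g : Omega F ⇑Q, g ∈ T ∧ f.Mon g.1 s 1}
  have hadd : ∀ s t, s ∈ V → t ∈ V → addP s t ∈ V := by
    rintro s t ⟨g, hg, hgm⟩ ⟨h, hh, hhm⟩
    exact ⟨g * h, mul_mem hg hh, by simpa using hgm.mul hhm⟩
  have hperm : ∀ s q, four q → s ∈ V → s ∘ dt q ∈ V := by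
    rintro s q hq ⟨g, hg, hgm⟩
    obtain ⟨ho, hl⟩ := f.exists_dt hq
    let h : Omega F ⇑Q := ⟨_, ho⟩
    have h1 : f.Mon h.1⁻¹ (fun i => false) (dt q)⁻¹ := hl.inv
    have h2 := (h1.mul hgm).mul hl
    have e : addP (addP ((fun _ => false) ∘ ⇑(1 : Equiv.Perm (Fin 7))) s ∘ ⇑(dt q)) (fun _ => false) =
        s ∘ ⇑(dt q) := funext fun i => by simp [addP]
    rw [e, mul_one, inv_mul_cancel] at h2
    refine ⟨h⁻¹ * g * h, ?_, h2⟩
    have := hcl h⁻¹ g hg (by rw [inv_inv]; exact ⟨_, 1, one_mem _, h2⟩)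
    rwa [inv_inv] at this
  -- a non-trivial sign change
  obtain ⟨s0, hs0, hs0ne⟩ : ∃ s ∈ V, s ≠ fun _ => false := by
    obtain ⟨x, hx, hx1⟩ := (Subgroup.ne_bot_iff_exists_ne_one).1 hne |>.elim fun a ha =>
      (⟨a.1, a.2, fun e => ha (Subtype.ext e)⟩ : ∃ x, x ∈ T ∧ x ≠ 1)
    obtain ⟨s, σ, hσ, hm⟩ := hT.1 hx
    by_cases h1 : σ = 1
    · subst h1
      exact ⟨s, ⟨x, hx, hm⟩, fun e => hx1 (Subtype.ext ((e ▸ hm).eq mon_one))⟩
    obtain ⟨i, hi⟩ : ∃ i, σ i ≠ i := by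
      by_contra h
      push Not at h
      exact h1 (Equiv.ext h)
    obtain ⟨l, l1, l2⟩ := moved_pair (σ i) i
    obtain ⟨e, he, hem⟩ := f.exists_diag
      ((by decide +kernel : ∀ a b : Fin 7, a ≠ b → evenB (pairP a b) = true) i l (Ne.symm l1))
    let c : Omega F ⇑Q := ⟨e, he⟩
    have hcS : c ∈ f.syl := ⟨_, _, one_mem _, hem⟩
    have hcT : c * x * c⁻¹ ∈ T := hcl c x hx (mul_mem (mul_mem hcS (hT.1 hx)) (inv_mem hcS))
    have hem' : f.Mon c.1 (pairP i l) 1 := hem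
    have h2 := (((hem'.mul hm).mul hem'.inv).mul hm.inv)
    simp only [inv_one, one_mul, mul_one, mul_inv_cancel] at h2
    refine ⟨_, ⟨c * x * c⁻¹ * x⁻¹, mul_mem hcT (inv_mem hx), h2⟩, fun e => ?_⟩
    have := congrFun e (σ i)
    simp only [addP, Function.comp_apply, Equiv.Perm.coe_inv, Equiv.symm_apply_apply,
      Equiv.Perm.coe_one, id_eq] at this
    simp [pairP, beq_eq_false_iff_ne.2 hi, beq_eq_false_iff_ne.2 (Ne.symm l2),
      beq_eq_false_iff_ne.2 (Ne.symm l1)] at this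
  obtain ⟨a, b, hab, hV⟩ : ∃ a b, a ≠ b ∧ pairP a b ∈ V := by
    obtain ⟨g, hg, hgm⟩ := hs0
    obtain ⟨q, hq, e⟩ := exists_pair_sum s0 (f.diag_even g.2 hgm) hs0ne
    exact ⟨_, _, hq.1, e ▸ hadd _ _ ⟨g, hg, hgm⟩ (hperm _ q hq ⟨g, hg, hgm⟩)⟩
  have hax : ∀ x, a ≠ x → pairP a x ∈ V := by
    intro x hx
    by_cases hbx : b = x
    · exact hbx ▸ hV
    · obtain ⟨q, hq, e⟩ := move_pair a b x hab hx hbx
      exact e ▸ hperm _ q hq hV
  have hpairs : ∀ x y, x ≠ y → pairP x y ∈ V := by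
    intro x y hxy
    by_cases h1 : a = x
    · exact h1 ▸ hax y (h1 ▸ hxy)
    by_cases h2 : a = y
    · subst h2; rw [pairP_self]; exact hax x h1
    exact addP_pairP a x y h1 h2 hxy ▸ hadd _ _ (hax x h1) (hax y h2)
  have hdiag : ∀ g : Omega F ⇑Q, ∀ s, f.Mon g.1 s 1 → g ∈ T := by
    intro g s hs
    have key : ∀ l : List (Fin 7), (∀ i ∈ l, i ≠ 6) →
        ((l.map fun i => pairP i 6).foldr addP fun _ => false) ∈ V := by
      intro l
      induction l with
      | nil => exact fun _ => ⟨1, one_mem T, mon_one⟩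
      | cons i l ih =>
        intro hl
        exact hadd _ _ (hpairs i 6 (hl i List.mem_cons_self))
          (ih fun j hj => hl j (List.mem_cons_of_mem _ hj))
    obtain ⟨g', hg', hm'⟩ : s ∈ V := by
      rw [even_decomp s (f.diag_even g.2 hs)]
      exact key _ fun i hi => by simp [List.mem_filter] at hi; exact hi.1
    exact (Subtype.ext (hs.eq hm') : g = g') ▸ hg'
  have hdt : ∀ q ∈ dbl, ∃ x ∈ T, f.Mon (x : Omega F ⇑Q).1 (fun _ => false) (dt q) := by
    intro q hq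
    obtain ⟨h4, hD⟩ := dbl_mem q hq
    obtain ⟨ho, hl⟩ := f.exists_dt h4
    obtain ⟨g, hg, he⟩ := f.exists_conj_dt h4
    let x : Omega F ⇑Q := ⟨_, ho⟩
    have hpo : refl Q (f.u q.1) * refl Q (f.u q.2.1) ∈ Omega F ⇑Q :=
      f.refl_mul_mem (by rw [f.q]; exact f.c_ne) (by rw [f.q, f.q])
    have hmem : (⟨_, hpo⟩ : Omega F ⇑Q) ∈ T := hdiag _ _ (f.mon_pair h4.1)
    have e : (⟨g, hg⟩ : Omega F ⇑Q) * ⟨_, hpo⟩ * (⟨g, hg⟩ : Omega F ⇑Q)⁻¹ = x := Subtype.ext he
    exact ⟨x, e ▸ hcl _ _ hmem (e ▸ ⟨_, _, hD, hl⟩), hl⟩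
  refine le_antisymm hT.1 fun g hg => ?_
  obtain ⟨s, σ, hσ, hm⟩ := hg
  obtain ⟨x, hx, t, hxm⟩ : ∃ x ∈ T, ∃ t, f.Mon (x : Omega F ⇑Q).1 t σ := by
    rcases dihList_gen σ hσ with rfl | ⟨q, hq, rfl⟩ | ⟨q, hq, q', hq', rfl⟩
    · exact ⟨1, one_mem T, _, mon_one⟩
    · obtain ⟨x, hx, hm⟩ := hdt q hq
      exact ⟨x, hx, _, hm⟩
    · obtain ⟨x, hx, hm⟩ := hdt q hq
      obtain ⟨x', hx', hm'⟩ := hdt q' hq'
      exact ⟨x * x', mul_mem hx hx', _, hm.mul hm'⟩
  have h1 := hxm.inv.mul hm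
  rw [inv_mul_cancel] at h1
  have := mul_mem hx (hdiag (x⁻¹ * g) _ h1)
  rwa [mul_inv_cancel_left] at this

end Frame

end Cfsg.Agent.OrthFrame
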